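import Groth.Agent.SmSliceSubLib.Glue

/-!
Smooth subschemes containing a closed subscheme smooth over a closed subscheme of the base, near finitely many points.
-/

set_option autoImplicit false
set_option linter.style.haveILetI false
set_option maxHeartbeats 1000000
set_option backward.isDefEq.respectTransparency false

universe u

open CategoryTheory CategoryTheory.Limits AlgebraicGeometry TopologicalSpace Opposite Module

noncomputable section

namespace Groth.Agent.SmSliceSubLib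

/-- The zero ring is smooth over any ring. -/
theorem smooth_subsingleton {A S : Type u} [CommRing A] [CommRing S] [Subsingleton S] (φ : A →+* S) : φ.Smooth := by
  algebraize [φ]
  haveI : Subsingleton (Localization.Away (0 : A)) :=
    IsLocalization.subsingleton (M := Submonoid.powers (0 : A)) ⟨1, pow_one 0⟩
  haveI : Algebra.Smooth A (Localization.Away (0 : A)) := Algebra.Smooth.of_isLocalization_Away (0 : A)
  let e : Localization.Away (0 : A) ≃ₐ[A] S :=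
    { toFun := fun _ => 0
      invFun := fun _ => 0
      left_inv := fun _ => Subsingleton.elim _ _
      right_inv := fun _ => Subsingleton.elim _ _
      map_mul' := fun _ _ => Subsingleton.elim _ _
      map_add' := fun _ _ => Subsingleton.elim _ _
      commutes' := fun _ => Subsingleton.elim _ _ }
  exact Algebra.Smooth.of_equiv e

variable {X₁ X₂ Z₁ Z₂ : Scheme.{u}}

theorem dPt_add {n : ℕ} {f : X₂ ⟶ X₁} {V : X₂.Opens} {t : X₂} (c : SChart n f V t) (a b : Γ(X₂, V)) :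
    dPt c (a + b) = dPt c a + dPt c b := by
  letI := (f.appLE c.U (X₂.basicOpen c.g) c.le).hom.toAlgebra
  show dAt _ _ _ = dAt _ _ _ + dAt _ _ _
  rw [map_add, dAt_add]

theorem dPt_zero {n : ℕ} {f : X₂ ⟶ X₁} {V : X₂.Opens} {t : X₂} (c : SChart n f V t) :
    dPt c (0 : Γ(X₂, V)) = 0 := by
  letI := (f.appLE c.U (X₂.basicOpen c.g) c.le).hom.toAlgebra
  show dAt _ _ _ = 0
  rw [map_zero, dAt_zero]

theorem dPt_mul_of_mem {n : ℕ} {f : X₂ ⟶ X₁} {V : X₂.Opens} {t : X₂} (c : SChart n f V t) (a b : Γ(X₂, V))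
    (ha : a ∈ ptIdeal X₂ V t (X₂.basicOpen_le c.g c.mem)) (hb : b ∈ ptIdeal X₂ V t (X₂.basicOpen_le c.g c.mem)) :
    dPt c (a * b) = 0 := by
  letI := (f.appLE c.U (X₂.basicOpen c.g) c.le).hom.toAlgebra
  show dAt _ _ _ = 0
  rw [map_mul, dAt_mul, Ideal.algebraMap_residueField_eq_zero.2 ((res_mem_ptIdeal _ c.mem a).2 ha),
    Ideal.algebraMap_residueField_eq_zero.2 ((res_mem_ptIdeal _ c.mem b).2 hb), zero_smul, zero_smul, add_zero]

/-- Multiplying by a function not vanishing at the point keeps the differentials independent. -/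
theorem indepAt_mul {n : ℕ} {f : X₂ ⟶ X₁} {V : X₂.Opens} {t : X₂} (c : SChart n f V t) {r : ℕ}
    (e : Γ(X₂, V)) (he : e ∉ ptIdeal X₂ V t (X₂.basicOpen_le c.g c.mem)) (h h' : Fin r → Γ(X₂, V))
    (hm : ∀ i, h i ∈ ptIdeal X₂ V t (X₂.basicOpen_le c.g c.mem)) (hi : IndepAt c h)
    (heq : ∀ i, dPt c (h' i) = dPt c (e * h i)) : IndepAt c h' := by
  letI := (f.appLE c.U (X₂.basicOpen c.g) c.le).hom.toAlgebra
  let K := (ptIdeal X₂ (X₂.basicOpen c.g) t c.mem).ResidueField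
  let u : K := algebraMap Γ(X₂, X₂.basicOpen c.g) K (X₂.presheaf.map (homOfLE (X₂.basicOpen_le c.g)).op e)
  have hu : u ≠ 0 := fun h0 => he ((res_mem_ptIdeal _ c.mem e).1 (Ideal.algebraMap_residueField_eq_zero.1 h0))
  have h1 : ∀ i, dPt c (h' i) = u • dPt c (h i) := fun i => by
    rw [heq i]
    show dAt _ _ _ = u • dAt _ _ _
    rw [map_mul, dAt_mul, Ideal.algebraMap_residueField_eq_zero.2 ((res_mem_ptIdeal _ c.mem (h i)).2 (hm i)),
      zero_smul, add_zero]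
  show LinearIndependent K fun i => dPt c (h' i)
  simp only [h1]
  exact hi.units_smul (fun _ => Units.mk0 u hu)

theorem ker_le_ptIdeal (i₂ : Z₂ ⟶ X₂) [IsClosedImmersion i₂] {V : X₂.Opens} (hV : IsAffineOpen V) {t : X₂}
    (ht : t ∈ V) (htZ : t ∈ Set.range i₂.base) : i₂.ker.ideal ⟨V, hV⟩ ≤ ptIdeal X₂ V t ht := fun x hx => by
  obtain ⟨z, rfl⟩ := htZ
  refine mem_ptIdeal.2 fun hz => ?_
  rw [Scheme.Hom.ker_apply, RingHom.mem_ker] at hx
  have h1 : z ∈ i₂ ⁻¹ᵁ X₂.basicOpen x := hz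
  rw [Scheme.preimage_basicOpen, hx, Scheme.basicOpen_zero] at h1
  exact h1

theorem exists_mem_ker_notMem (i₂ : Z₂ ⟶ X₂) [IsClosedImmersion i₂] {V : X₂.Opens} (hV : IsAffineOpen V) {t : X₂}
    (ht : t ∈ V) (htZ : t ∉ Set.range i₂.base) : ∃ y ∈ i₂.ker.ideal ⟨V, hV⟩, y ∉ ptIdeal X₂ V t ht := by
  by_contra hall
  push Not at hall
  refine htZ ?_
  have h : t ∈ i₂.ker.support := (Scheme.IdealSheafData.mem_support_iff_of_mem (U := ⟨V, hV⟩) ht).2
    ((X₂.mem_zeroLocus_iff _ t).2 fun y hy => mem_ptIdeal.1 (hall y hy))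
  have h2 : (i₂.ker.support : Set X₂) = Set.range i₂.base := by
    rw [Scheme.Hom.support_ker]
    exact i₂.isClosedEmbedding.isClosed_range.closure_eq
  rw [← h2]
  exact h

variable (i₁ : Z₁ ⟶ X₁) (i₂ : Z₂ ⟶ X₂) [IsClosedImmersion i₁] [IsClosedImmersion i₂]
  (f : X₂ ⟶ X₁) (g : Z₂ ⟶ Z₁)

/-- The main theorem. -/
theorem exists_slice {n e : ℕ} [SmoothOfRelativeDimension n f] [SmoothOfRelativeDimension e g]
    (hsq : i₂ ≫ f = g ≫ i₁) (T : Set X₂) (hT : T.Finite) (hcase : e < n ∨ T ⊆ Set.range i₂.base)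
    (V : X₂.Opens) (hV : IsAffineOpen V) (hTV : T ⊆ (V : Set X₂)) :
    ∃ U : X₂.Opens, T ⊆ (U : Set X₂) ∧
      ∃ (W : Scheme.{u}) (k : W ⟶ (U : Scheme.{u}))
        (m : ((i₂ ⁻¹ᵁ U : Z₂.Opens) : Scheme.{u}) ⟶ W),
        IsClosedImmersion k ∧ m ≫ k = i₂ ∣_ U ∧ AlgebraicGeometry.Smooth (k ≫ U.ι ≫ f) ∧
          IsPullback m ((i₂ ⁻¹ᵁ U).ι ≫ g) (k ≫ U.ι ≫ f) i₁ := by
  classical
  haveI := hT.fintype
  let p : T → Ideal Γ(X₂, V) := fun t => ptIdeal X₂ V t.1 (hTV t.2)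
  have hspec : ∀ (s t : T), p s ≤ p t → ∀ D : X₂.Opens, t.1 ∈ D → s.1 ∈ D := fun s t hst D htD => by
    obtain ⟨a, haD, hta⟩ := hV.exists_basicOpen_le ⟨t.1, htD⟩ (hTV t.2)
    exact haD (mem_basicOpen_of_notMem (ht := hTV s.2) fun hs => mem_ptIdeal.1 (hst hs) hta)
  have hinj : ∀ s t : T, p s = p t → s = t := fun s t h => Subtype.ext (Inseparable.eq
    (inseparable_iff_forall_isOpen.2 fun D hD =>
      ⟨fun hs => hspec t s h.ge ⟨D, hD⟩ hs, fun ht => hspec s t h.le ⟨D, hD⟩ ht⟩))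
  let M : Finset T := Finset.univ.filter fun t => ∀ s, p t ≤ p s → p s ≤ p t
  have hM : ∀ s : T, ∃ t ∈ M, p s ≤ p t := fun s => by
    obtain ⟨t, hst, ht⟩ := (Set.finite_range p).exists_le_maximal (a := p s) ⟨s, rfl⟩
    obtain ⟨t₀, rfl⟩ := ht.1
    exact ⟨t₀, Finset.mem_filter.2 ⟨Finset.mem_univ _, fun s' h' => ht.2 ⟨s', rfl⟩ h'⟩, hst⟩
  have hsep : ∀ t ∈ M, ∃ a : Γ(X₂, V), a ∉ p t ∧ ∀ s ∈ M, s ≠ t → a ∈ p s := fun t ht => by
    have hnle : ∀ s ∈ M.erase t, ∃ a, a ∈ p s ∧ a ∉ p t := fun s hs => by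
      obtain ⟨hne, hsM⟩ := Finset.mem_erase.1 hs
      refine SetLike.not_le_iff_exists.1 fun hle => hne (hinj s t (le_antisymm hle ?_))
      exact (Finset.mem_filter.1 hsM).2 t hle
    choose a ha hat using hnle
    refine ⟨∏ s : {s // s ∈ M.erase t}, a s.1 s.2, fun hm => ?_, fun s hs hne => ?_⟩
    · obtain ⟨s, -, hs⟩ := (Ideal.IsPrime.prod_mem_iff (p := p t)).1 hm
      exact hat s.1 s.2 hs
    · exact Ideal.mem_of_dvd _ (Finset.dvd_prod_of_mem _ (Finset.mem_univ ⟨s, Finset.mem_erase.2 ⟨hne, hs⟩⟩))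
        (ha s (Finset.mem_erase.2 ⟨hne, hs⟩))
  choose E hE hE' using hsep
  let c : ∀ t : T, SChart n f V t.1 := fun t => Classical.choice (exists_sChart n f hV t.1 (hTV t.2))
  let I := i₂.ker.ideal ⟨V, hV⟩
  have hloc : ∀ t : T, ∃ hs : Fin (n - e) → Γ(X₂, V), (∀ i, hs i ∈ I) ∧
      ((t.1 ∈ Set.range i₂.base ∧ IndepAt (c t) hs) ∨ (t.1 ∉ Set.range i₂.base ∧ ∃ i, hs i ∉ p t)) := fun t => by
    by_cases htZ : t.1 ∈ Set.range i₂.base
    · obtain ⟨r, hr, ⟨h, hhI, hh⟩, -⟩ := exists_selection i₁ i₂ f g hsq hV (hTV t.2) htZ (c t) (e := e)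
      obtain rfl : r = n - e := by omega
      exact ⟨h, hhI, Or.inl ⟨htZ, hh⟩⟩
    · have hen : e < n := hcase.resolve_right fun hsub => htZ (hsub t.2)
      obtain ⟨y, hy, hyt⟩ := exists_mem_ker_notMem i₂ hV (hTV t.2) htZ
      exact ⟨fun _ => y, fun _ => hy, Or.inr ⟨htZ, ⟨0, by omega⟩, hyt⟩⟩
  choose hs hsI hsP using hloc
  let h : Fin (n - e) → Γ(X₂, V) := fun i => ∑ s ∈ M.attach, E s.1 s.2 * hs s.1 i
  have hI : ∀ i, h i ∈ I := fun i => Ideal.sum_mem _ fun s _ => Ideal.mul_mem_left _ _ (hsI s.1 i)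
  have hdec : ∀ (t : {t // t ∈ M}) i, ∃ w, h i = E t.1 t.2 * hs t.1 i + w ∧ w ∈ p t.1 ∧
      (t.1.1 ∈ Set.range i₂.base → dPt (c t.1) w = 0) := fun t i => by
    refine ⟨∑ s ∈ M.attach.erase t, E s.1 s.2 * hs s.1 i,
      (Finset.add_sum_erase M.attach (fun s => E s.1 s.2 * hs s.1 i) (Finset.mem_attach _ t)).symm, ?_, fun htZ => ?_⟩
    · refine Ideal.sum_mem _ fun s hsm => Ideal.mul_mem_right _ _ (hE' s.1 s.2 t.1 t.2 fun h => ?_)
      exact (Finset.mem_erase.1 hsm).1 (Subtype.ext h.symm)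
    · refine Finset.sum_induction _ (fun w => dPt (c t.1) w = 0) (fun a b ha hb => by rw [dPt_add, ha, hb, add_zero])
        (dPt_zero _) fun s hsm => ?_
      refine dPt_mul_of_mem _ _ _ (hE' s.1 s.2 t.1 t.2 fun h => (Finset.mem_erase.1 hsm).1 (Subtype.ext h.symm)) ?_
      exact ker_le_ptIdeal i₂ hV _ htZ (hsI s.1 i)
  have hP : ∀ t : {t // t ∈ M}, ∃ P : Piece i₁ i₂ f V h, t.1.1 ∈ P.D := fun t => by
    rcases hsP t.1 with ⟨htZ, hind⟩ | ⟨htZ, i₀, hi₀⟩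
    · obtain ⟨r, hr, -, hD⟩ := exists_selection i₁ i₂ f g hsq hV (hTV t.1.2) htZ (c t.1) (e := e)
      obtain rfl : r = n - e := by omega
      have hh : IndepAt (c t.1) h := by
        refine indepAt_mul (c t.1) (E t.1 t.2) (hE t.1 t.2) (hs t.1) h
          (fun i => ker_le_ptIdeal i₂ hV _ htZ (hsI t.1 i)) hind fun i => ?_
        obtain ⟨w, hw, -, hw0⟩ := hdec t i
        rw [hw, dPt_add, hw0 htZ, add_zero]
      obtain ⟨D, hD', hDV, hDU, htD, hsm, hle⟩ := hD h hI hh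
      exact ⟨⟨D, hD', hDV, (c t.1).U, (c t.1).hU, hDU, hsm, hle⟩, htD⟩
    · obtain ⟨w, hw, hwt, -⟩ := hdec t i₀
      have hnot : h i₀ ∉ p t.1 := fun hm => by
        rw [hw] at hm
        exact ((Ideal.IsPrime.mem_or_mem inferInstance ((Ideal.add_mem_iff_left _ hwt).1 hm)).elim (hE t.1 t.2) hi₀)
      let D := X₂.basicOpen ((c t.1).g * h i₀)
      have hDW : D ≤ X₂.basicOpen (c t.1).g := (X₂.basicOpen_mul _ _).le.trans inf_le_left
      have hDh : D ≤ X₂.basicOpen (h i₀) := (X₂.basicOpen_mul _ _).le.trans inf_le_right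
      have htD : t.1.1 ∈ D := by
        show _ ∈ X₂.basicOpen _
        rw [Scheme.basicOpen_mul]
        exact ⟨(c t.1).mem, mem_basicOpen_of_notMem hnot⟩
      have hDV : D ≤ V := X₂.basicOpen_le _
      have hu : IsUnit (X₂.presheaf.map (homOfLE hDV).op (h i₀)) := by
        have h1 := RingedSpace.isUnit_res_basicOpen X₂.toRingedSpace (h i₀)
        have h2 := h1.map (X₂.presheaf.map (homOfLE hDh).op).hom
        change IsUnit ((X₂.presheaf.map (homOfLE hDh).op) (X₂.presheaf.map (homOfLE (X₂.basicOpen_le (h i₀))).op (h i₀))) at h2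
        rw [← ConcreteCategory.comp_apply, ← X₂.presheaf.map_comp] at h2
        exact h2
      have htop : Ideal.span (Set.range fun i => X₂.presheaf.map (homOfLE hDV).op (h i)) = ⊤ :=
        Ideal.eq_top_of_isUnit_mem _ (Ideal.subset_span ⟨i₀, rfl⟩) hu
      haveI : Subsingleton (Γ(X₂, D) ⧸ Ideal.span (Set.range fun i => X₂.presheaf.map (homOfLE hDV).op (h i))) :=
        Ideal.Quotient.subsingleton_iff.2 htop
      exact ⟨⟨D, hV.basicOpen _, hDV, (c t.1).U, (c t.1).hU, hDW.trans (c t.1).le, smooth_subsingleton _,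
        le_top.trans ((htop.ge).trans le_sup_left)⟩, htD⟩
  choose P hP using hP
  refine ⟨⨆ t, (P t).D, fun x hx => ?_, exists_slice_of_pieces i₁ i₂ f g hsq hV h hI P⟩
  obtain ⟨t, htM, hxt⟩ := hM ⟨x, hx⟩
  exact Opens.mem_iSup.2 ⟨⟨t, htM⟩, hspec ⟨x, hx⟩ t hxt _ (hP ⟨t, htM⟩)⟩

end Groth.Agent.SmSliceSubLib
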