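import Groth.Agent.SmoothSliceLib.Divisor

/-!
Smooth slices of a smooth algebra through a prime, containing a given closed subscheme which is smooth
over a closed subscheme of the base.
-/

set_option autoImplicit false
set_option linter.style.haveILetI false
set_option maxHeartbeats 1000000
universe u
open TensorProduct KaehlerDifferential Module

namespace Groth.Agent.SmSliceSubLib

variable {A T : Type u} [CommRing A] [CommRing T] [Algebra A T]

variable (A) in
/-- The differential of a function at a point. -/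
noncomputable abbrev dAt (K : Type u) [Field K] [Algebra T K] (r : T) : K ⊗[T] Ω[T⁄A] := (1 : K) ⊗ₜ[T] D A T r

theorem dAt_add (K : Type u) [Field K] [Algebra T K] (r s : T) : dAt A K (r + s) = dAt A K r + dAt A K s := by
  rw [dAt, map_add, TensorProduct.tmul_add]

theorem dAt_mul (K : Type u) [Field K] [Algebra T K] (r s : T) :
    dAt A K (r * s) = algebraMap T K r • dAt A K s + algebraMap T K s • dAt A K r := by
  rw [dAt, Derivation.leibniz, TensorProduct.tmul_add, TensorProduct.tmul_smul, TensorProduct.tmul_smul,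
    ← algebraMap_smul K r, ← algebraMap_smul K s]

theorem dAt_zero (K : Type u) [Field K] [Algebra T K] : dAt A K (0 : T) = 0 := by
  rw [dAt, map_zero, TensorProduct.tmul_zero]

theorem dAt_algebraMap (K : Type u) [Field K] [Algebra T K] (a : A) : dAt A K (algebraMap A T a) = 0 := by
  rw [dAt, Derivation.map_algebraMap, TensorProduct.tmul_zero]

/-- A set of variables cuts out a smooth quotient. -/
theorem smooth_quot_vars {d : ℕ} (s : Set (Fin d)) :
    Algebra.Smooth A (MvPolynomial (Fin d) A ⧸ Ideal.span (MvPolynomial.X '' s : Set (MvPolynomial (Fin d) A))) := by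
  classical
  let P := MvPolynomial (Fin d) A
  let J : Ideal P := Ideal.span (MvPolynomial.X '' s)
  let ι : {j : Fin d // j ∉ s} → Fin d := Subtype.val
  have hι : Function.Injective ι := Subtype.val_injective
  let g : MvPolynomial {j : Fin d // j ∉ s} A →ₐ[A] P ⧸ J := (Ideal.Quotient.mkₐ A J).comp (MvPolynomial.rename ι)
  have hkill : J ≤ RingHom.ker (MvPolynomial.killCompl (R := A) hι) := Ideal.span_le.2 fun x hx => by
    obtain ⟨i, hi, rfl⟩ := hx
    rw [SetLike.mem_coe, RingHom.mem_ker, MvPolynomial.killCompl, MvPolynomial.aeval_X,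
      dif_neg (by rintro ⟨⟨j, hj⟩, h⟩; exact hj ((show j = i from h) ▸ hi))]
  let h : P ⧸ J →ₐ[A] MvPolynomial {j : Fin d // j ∉ s} A :=
    Ideal.Quotient.liftₐ J (MvPolynomial.killCompl hι) (fun x hx => hkill hx)
  have h1 : h.comp g = AlgHom.id A _ := by
    refine AlgHom.ext fun x => ?_
    exact MvPolynomial.killCompl_rename_app hι x
  have h2 : g.comp h = AlgHom.id A _ := by
    refine Ideal.Quotient.algHom_ext A (MvPolynomial.algHom_ext fun j => ?_)
    show Ideal.Quotient.mk J (MvPolynomial.rename ι (MvPolynomial.killCompl hι (MvPolynomial.X j))) = Ideal.Quotient.mk J (MvPolynomial.X j)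
    by_cases hj : j ∈ s
    · rw [show (Ideal.Quotient.mk J (MvPolynomial.X j : P)) = 0 from
        Ideal.Quotient.eq_zero_iff_mem.2 (Ideal.subset_span ⟨j, hj, rfl⟩),
        MvPolynomial.killCompl, MvPolynomial.aeval_X, dif_neg (by rintro ⟨⟨j', hj'⟩, h⟩; exact hj' ((show j' = j from h) ▸ hj)), map_zero, map_zero]
    · rw [show (MvPolynomial.X j : P) = MvPolynomial.rename ι (MvPolynomial.X ⟨j, hj⟩) by simp [ι, P],
        MvPolynomial.killCompl_rename_app]
  haveI : Algebra.Smooth A (MvPolynomial {j : Fin d // j ∉ s} A) := { }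
  exact Algebra.Smooth.of_equiv (AlgEquiv.ofAlgHom g h h2 h1)

/-- Functions with independent differentials at a point cut out a smooth subscheme near the point. -/
theorem exists_smooth_slice [Algebra.IsStandardSmooth A T] (q : Ideal T) [q.IsPrime] {r : ℕ} (h : Fin r → T)
    (hli : LinearIndependent q.ResidueField fun i => dAt A q.ResidueField (h i)) :
    ∃ Dt : T, Dt ∉ q ∧ Algebra.Smooth A
      (Localization.Away Dt ⧸ Ideal.span (Set.range fun i => algebraMap T (Localization.Away Dt) (h i))) := by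
  classical
  haveI : Nontrivial T := ⟨0, 1, fun h => (‹q.IsPrime›.ne_top) ((Ideal.eq_top_iff_one q).2 (h ▸ q.zero_mem))⟩
  let K := q.ResidueField
  let v : T → K ⊗[T] Ω[T⁄A] := dAt A K
  have hspan : Submodule.span K (Set.range v) = ⊤ := SmoothSliceLib.span_range_differentials q
  obtain ⟨t, hts, hvt, hst, hlt⟩ := exists_linearIndepOn_id_extension hli.linearIndepOn_id
    (Set.range_subset_iff.2 fun i => ⟨h i, rfl⟩ : Set.range (fun i => v (h i)) ⊆ Set.range v)
  have hsp : Submodule.span K t = ⊤ := top_le_iff.1 (hspan ▸ Submodule.span_le.2 hst)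
  let b₀ : Module.Basis t K (K ⊗[T] Ω[T⁄A]) :=
    Module.Basis.mk hlt (by simp only [id_eq]; rw [Subtype.range_coe, hsp])
  let b := Module.finBasis T Ω[T⁄A]
  let σ := b₀.indexEquiv (b.baseChange K)
  let j₀ : Fin r → Fin (Module.finrank T Ω[T⁄A]) := fun i => σ ⟨v (h i), hvt ⟨i, rfl⟩⟩
  have hj₀ : Function.Injective j₀ := fun i i' e =>
    hli.injective (congrArg Subtype.val (σ.injective e))
  choose f' hf' using fun j => hts (σ.symm j).2
  let f : Fin (Module.finrank T Ω[T⁄A]) → T := Function.extend j₀ h f'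
  have hlf : LinearIndependent K fun j => v (f j) := by
    rw [show (fun j => v (f j)) = b₀ ∘ σ.symm from funext fun j => by
      simp only [Function.comp_apply, b₀, Module.Basis.mk_apply, id_eq]
      by_cases hj : ∃ i, j₀ i = j
      · obtain ⟨i, rfl⟩ := hj
        simp only [f, hj₀.extend_apply, j₀, Equiv.symm_apply_apply]
      · simp only [f, Function.extend_apply' _ _ _ hj]
        exact hf' j]
    exact b₀.linearIndependent.comp _ σ.symm.injective
  obtain ⟨Dt, hDt, het⟩ := SmoothSliceLib.exists_etale_coords b K f hlf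
  refine ⟨Dt, fun hm => hDt (Ideal.algebraMap_residueField_eq_zero.2 hm), ?_⟩
  let U := Localization.Away Dt
  let P := MvPolynomial (Fin (Module.finrank T Ω[T⁄A])) A
  let φ : P →ₐ[A] U := MvPolynomial.aeval fun i => algebraMap T U (f i)
  letI : Algebra P U := φ.toRingHom.toAlgebra
  haveI : Algebra.Etale P U := het
  let J : Ideal P := Ideal.span (MvPolynomial.X '' Set.range j₀)
  have hJ : J.map (algebraMap P U) = Ideal.span (Set.range fun i => algebraMap T U (h i)) := by
    rw [Ideal.map_span, ← Set.range_comp, ← Set.range_comp]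
    congr 2
    funext i
    show φ (MvPolynomial.X (j₀ i)) = _
    refine (MvPolynomial.aeval_X _ _).trans ?_
    simp [f, hj₀.extend_apply]
  rw [← hJ]
  haveI := smooth_quot_vars (A := A) (Set.range j₀)
  exact SmoothSliceLib.smooth_quot (A := A) (C := MvPolynomial (Fin (Module.finrank T Ω[T⁄A])) A) (B := U)
    (RingHom.ext fun r => φ.commutes r) J

/-- Elementary step towards Nakayama. -/
theorem sup_mul_le_of_le {R : Type u} [CommRing R] (Q J M : Ideal R) (h : J ≤ M ⊔ Q) :
    Q ⊔ J * J ≤ Q ⊔ J • M := by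
  refine sup_le le_sup_left ((Ideal.mul_mono_right h).trans ?_)
  rw [Ideal.mul_sup, smul_eq_mul]
  exact sup_le le_sup_right (Ideal.mul_le_right.trans le_sup_left)

/-- Near a point, a closed subscheme smooth over a closed subscheme of the base is cut out, inside the
preimage of the latter, by functions whose differentials span those of its ideal. -/
theorem exists_kill [Algebra.FinitePresentation A T] (a : Ideal A) (J : Ideal T) [Algebra (A ⧸ a) (T ⧸ J)]
    [IsScalarTower A (A ⧸ a) (T ⧸ J)] [Algebra.FormallySmooth (A ⧸ a) (T ⧸ J)]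
    [Algebra.FinitePresentation (A ⧸ a) (T ⧸ J)] (q : Ideal T) [q.IsPrime] (hJq : J ≤ q) {ι : Type*}
    (h : ι → T) (hhJ : ∀ i, h i ∈ J)
    (hspan : ∀ m ∈ J, dAt A q.ResidueField m ∈ Submodule.span q.ResidueField (Set.range fun i => dAt A q.ResidueField (h i))) :
    ∃ Dt : T, Dt ∉ q ∧ ∀ x ∈ J, Dt * x ∈ Ideal.span (Set.range h) ⊔ a.map (algebraMap A T) := by
  classical
  let K := q.ResidueField
  let aT : Ideal T := a.map (algebraMap A T)
  let Q : Ideal T := Ideal.span (Set.range h) ⊔ aT
  have haJ : aT ≤ J := Ideal.map_le_iff_le_comap.2 fun c hc => by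
    rw [Ideal.mem_comap, ← Ideal.Quotient.eq_zero_iff_mem]
    show algebraMap A (T ⧸ J) c = 0
    rw [IsScalarTower.algebraMap_apply A (A ⧸ a) (T ⧸ J)]
    rw [show algebraMap A (A ⧸ a) c = 0 from Ideal.Quotient.eq_zero_iff_mem.2 hc, map_zero]
  have hQJ : Q ≤ J := sup_le (Ideal.span_le.2 (Set.range_subset_iff.2 hhJ)) haJ
  -- finitely many generators of `J` modulo the ideal of the base
  obtain ⟨G, hGJ, hG⟩ : ∃ G : Finset T, (↑G : Set T) ⊆ J ∧ J ≤ Ideal.span (↑G : Set T) ⊔ aT := by
    let T₀ := T ⧸ a.map (algebraMap A T)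
    let E := Algebra.TensorProduct.quotIdealMapEquivQuotTensor T a
    haveI : Algebra.FinitePresentation (A ⧸ a) T₀ := Algebra.FinitePresentation.equiv E.symm
    let π : T₀ →ₐ[A ⧸ a] T ⧸ J :=
      { Ideal.Quotient.factor haJ with
        commutes' := fun c => by
          obtain ⟨c, rfl⟩ := Ideal.Quotient.mk_surjective c
          show Ideal.Quotient.mk J (algebraMap A T c) = algebraMap (A ⧸ a) (T ⧸ J) (algebraMap A (A ⧸ a) c)
          rw [← IsScalarTower.algebraMap_apply]
          rfl }
    have hπ : Function.Surjective π := Ideal.Quotient.factor_surjective haJ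
    obtain ⟨s, hs⟩ := Algebra.FinitePresentation.ker_fG_of_surjective π hπ
    choose g hg using fun x : T₀ => Ideal.Quotient.mk_surjective x
    refine ⟨s.image g, ?_, fun x hx => ?_⟩
    · intro y hy
      obtain ⟨x, hx, rfl⟩ := Finset.mem_image.1 hy
      have hxk : π x = 0 := hs.le (Ideal.subset_span hx)
      rw [← hg x] at hxk
      exact Ideal.Quotient.eq_zero_iff_mem.1 hxk
    · have hxk : Ideal.Quotient.mk aT x ∈ Submodule.span T₀ (s : Set T₀) :=
        hs.ge (show π (Ideal.Quotient.mk aT x) = 0 from Ideal.Quotient.eq_zero_iff_mem.2 hx)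
      have hmap : (Ideal.span (↑(s.image g) : Set T)).map (Ideal.Quotient.mk aT) = Ideal.span (s : Set T₀) := by
        rw [Ideal.map_span, Finset.coe_image, ← Set.image_comp,
          show (Ideal.Quotient.mk aT : T → T₀) ∘ g = id from funext hg, Set.image_id]
      have hxm : x ∈ ((Ideal.span (↑(s.image g) : Set T)).map (Ideal.Quotient.mk aT)).comap (Ideal.Quotient.mk aT) := by
        rw [Ideal.mem_comap, hmap]
        exact hxk
      rwa [Ideal.comap_map_of_surjective _ Ideal.Quotient.mk_surjective, ← RingHom.ker_eq_comap_bot,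
        Ideal.mk_ker] at hxm
  -- the square zero extension
  let Q' : Ideal T := Q ⊔ J * J
  have hQ'J : Q' ≤ J := sup_le hQJ Ideal.mul_le_right
  let C := T ⧸ Q'
  letI algC : Algebra (A ⧸ a) C := (Ideal.Quotient.lift a ((Ideal.Quotient.mk Q').comp (algebraMap A T))
    fun c hc => Ideal.Quotient.eq_zero_iff_mem.2
      (Ideal.mem_sup_left (Ideal.mem_sup_right (Ideal.mem_map_of_mem _ hc)))).toAlgebra
  haveI : IsScalarTower A (A ⧸ a) C := .of_algebraMap_eq fun c => rfl
  let π : C →ₐ[A ⧸ a] T ⧸ J :=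
    { Ideal.Quotient.factor hQ'J with
      commutes' := fun c => by
        obtain ⟨c, rfl⟩ := Ideal.Quotient.mk_surjective c
        show Ideal.Quotient.mk J (algebraMap A T c) = algebraMap (A ⧸ a) (T ⧸ J) (algebraMap A (A ⧸ a) c)
        rw [← IsScalarTower.algebraMap_apply]
        rfl }
  have hπs : Function.Surjective π := Ideal.Quotient.factor_surjective hQ'J
  have hπk : RingHom.ker (π : C →+* T ⧸ J) ≤ J.map (Ideal.Quotient.mk Q') := fun x hx => by
    obtain ⟨y, rfl⟩ := Ideal.Quotient.mk_surjective x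
    exact Ideal.mem_map_of_mem _ (Ideal.Quotient.eq_zero_iff_mem.1 (show Ideal.Quotient.mk J y = 0 from hx))
  have hsq : ∀ x y : T, x ∈ J → y ∈ J → Ideal.Quotient.mk Q' x * Ideal.Quotient.mk Q' y = 0 := fun x y hx hy => by
    rw [← map_mul]
    exact Ideal.Quotient.eq_zero_iff_mem.2 (Ideal.mem_sup_right (Ideal.mul_mem_mul hx hy))
  have hnil : RingHom.ker (π : C →+* T ⧸ J) ^ 2 = ⊥ := by
    refine le_bot_iff.1 ((Ideal.pow_right_mono hπk 2).trans ?_)
    rw [← Ideal.map_pow, pow_two, Ideal.map_le_iff_le_comap]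
    intro z hz
    exact Ideal.Quotient.eq_zero_iff_mem.2 (Ideal.mem_sup_right hz)
  let s : T ⧸ J →ₐ[A ⧸ a] C :=
    Algebra.FormallySmooth.liftOfSurjective (AlgHom.id _ _) π hπs ⟨2, hnil⟩
  have hs : ∀ z, π (s z) = z := fun z => Algebra.FormallySmooth.liftOfSurjective_apply _ π hπs ⟨2, hnil⟩ z
  let N : Submodule T C := Submodule.map (Ideal.Quotient.mkₐ T Q').toLinearMap J
  have hNmem : ∀ c : C, π c = 0 → c ∈ N := fun c hc => by
    obtain ⟨y, rfl⟩ := Ideal.Quotient.mk_surjective c
    exact ⟨y, Ideal.Quotient.eq_zero_iff_mem.1 (show Ideal.Quotient.mk J y = 0 from hc), rfl⟩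
  let σ : T → C := fun t => s (Ideal.Quotient.mk J t)
  have hN : ∀ t, Ideal.Quotient.mk Q' t - σ t ∈ N := fun t => hNmem _ (by
    rw [map_sub, hs]
    exact sub_self _)
  have hσA : ∀ c : A, σ (algebraMap A T c) = algebraMap A C c := fun c => by
    show s (algebraMap A (T ⧸ J) c) = _
    rw [IsScalarTower.algebraMap_apply A (A ⧸ a) (T ⧸ J), AlgHom.commutes, ← IsScalarTower.algebraMap_apply]
  have hN0 : ∀ x ∈ N, ∀ y ∈ N, x * y = 0 := by
    rintro _ ⟨x, hx, rfl⟩ _ ⟨y, hy, rfl⟩
    exact hsq x y hx hy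
  let δ : Derivation A T N := Derivation.mk'
    { toFun := fun t => ⟨Ideal.Quotient.mk Q' t - σ t, hN t⟩
      map_add' := fun x y => Subtype.ext (by
        show Ideal.Quotient.mk Q' (x + y) - σ (x + y) = (Ideal.Quotient.mk Q' x - σ x) + (Ideal.Quotient.mk Q' y - σ y)
        simp only [σ, map_add]
        ring)
      map_smul' := fun c x => Subtype.ext (by
        show Ideal.Quotient.mk Q' (c • x) - σ (c • x) = c • (Ideal.Quotient.mk Q' x - σ x)
        rw [Algebra.smul_def, Algebra.smul_def, map_mul,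
          show σ (algebraMap A T c * x) = σ (algebraMap A T c) * σ x by simp [σ, map_mul], hσA, mul_sub]
        rfl) }
    fun x y => Subtype.ext (by
      show Ideal.Quotient.mk Q' (x * y) - σ (x * y) =
        x • (Ideal.Quotient.mk Q' y - σ y) + y • (Ideal.Quotient.mk Q' x - σ x)
      rw [Algebra.smul_def, Algebra.smul_def (A := C) y, show algebraMap T C x = Ideal.Quotient.mk Q' x from rfl,
        show algebraMap T C y = Ideal.Quotient.mk Q' y from rfl, map_mul,
        show σ (x * y) = σ x * σ y by simp [σ, map_mul]]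
      have h2 := hN0 _ (hN x) _ (hN y)
      linear_combination -h2)
  have hδJ : ∀ m ∈ J, (δ m : C) = Ideal.Quotient.mk Q' m := fun m hm => by
    show Ideal.Quotient.mk Q' m - σ m = _
    simp [σ, Ideal.Quotient.eq_zero_iff_mem.2 hm]
  have hδh : ∀ i, δ (h i) = 0 := fun i => Subtype.ext (by
    rw [hδJ _ (hhJ i)]
    exact Ideal.Quotient.eq_zero_iff_mem.2 (Ideal.mem_sup_left (Ideal.mem_sup_left (Ideal.subset_span ⟨i, rfl⟩))))
  let L : Ω[T⁄A] →ₗ[T] K ⊗[T] N := (TensorProduct.mk T K N 1).comp δ.liftKaehlerDifferential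
  have hL : ∀ t, L.liftBaseChange K (dAt A K t) = (1 : K) ⊗ₜ[T] δ t := fun t => by
    rw [dAt, LinearMap.liftBaseChange_tmul, one_smul]
    simp [L]
  haveI : Module.Finite T N := by
    refine Module.Finite.iff_fg.2 ⟨G.image (fun x => Ideal.Quotient.mk Q' x), le_antisymm ?_ ?_⟩
    · rw [Submodule.span_le, Finset.coe_image]
      rintro _ ⟨x, hx, rfl⟩
      exact ⟨x, hGJ hx, rfl⟩
    · rintro _ ⟨x, hx, rfl⟩
      obtain ⟨y, hy, z, hz, rfl⟩ := Submodule.mem_sup.1 (hG hx)
      rw [map_add, show (Ideal.Quotient.mkₐ T Q').toLinearMap z = 0 from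
        Ideal.Quotient.eq_zero_iff_mem.2 (Ideal.mem_sup_left (Ideal.mem_sup_right hz)), add_zero, Finset.coe_image]
      have := Submodule.mem_map_of_mem (f := (Ideal.Quotient.mkₐ T Q').toLinearMap) hy
      rw [Ideal.span, Submodule.map_span] at this
      exact this
  have hzero : ∀ z : K ⊗[T] N, z = 0 := fun z => by
    induction z using TensorProduct.induction_on with
    | zero => rfl
    | add x y hx hy => rw [hx, hy, add_zero]
    | tmul c n =>
      obtain ⟨_, m, hm, rfl⟩ := n
      have h1 : (1 : K) ⊗ₜ[T] δ m = 0 := by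
        rw [← hL]
        refine (Submodule.span_le.2 (?_ : Set.range (fun i => dAt A K (h i)) ⊆
          (LinearMap.ker (L.liftBaseChange K) : Submodule K (K ⊗[T] Ω[T⁄A])))) (hspan m hm)
        rintro _ ⟨i, rfl⟩
        rw [SetLike.mem_coe, LinearMap.mem_ker, hL, hδh, TensorProduct.tmul_zero]
      rw [show (⟨_, m, hm, rfl⟩ : N) = δ m from Subtype.ext (hδJ m hm).symm,
        show c ⊗ₜ[T] δ m = c • ((1 : K) ⊗ₜ[T] δ m) by rw [TensorProduct.smul_tmul', smul_eq_mul, mul_one], h1,
        smul_zero]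
  have hns : (⟨q, inferInstance⟩ : PrimeSpectrum T) ∉ Module.support T N := fun hmem => by
    rw [Module.mem_support_iff_nontrivial_residueField_tensorProduct] at hmem
    obtain ⟨x, y, hxy⟩ := hmem
    exact hxy ((hzero x).trans (hzero y).symm)
  rw [Module.mem_support_iff_of_finite, SetLike.not_le_iff_exists] at hns
  obtain ⟨u, hu, huq⟩ := hns
  have huJ : ∀ x ∈ J, u * x ∈ Q' := fun x hx => by
    rw [← Ideal.Quotient.eq_zero_iff_mem]
    exact congrArg Subtype.val (Module.mem_annihilator.1 hu ⟨_, x, hx, rfl⟩)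
  -- Nakayama
  let R := Localization.AtPrime q
  let M : Ideal R := Ideal.span (algebraMap T R '' (G : Set T))
  have hJR : J.map (algebraMap T R) ≤ M ⊔ Q.map (algebraMap T R) := by
    refine (Ideal.map_mono hG).trans ?_
    rw [Ideal.map_sup, Ideal.map_span]
    exact sup_le_sup le_rfl (Ideal.map_mono le_sup_right)
  have hMQ : M ≤ Q.map (algebraMap T R) := by
    refine Submodule.le_of_le_smul_of_le_jacobson_bot (I := J.map (algebraMap T R))
      (Submodule.fg_span (G.finite_toSet.image _)) ?_ ?_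
    · rw [IsLocalRing.jacobson_eq_maximalIdeal _ bot_ne_top, ← Localization.AtPrime.map_eq_maximalIdeal]
      exact Ideal.map_mono hJq
    · refine Ideal.span_le.2 ?_
      rintro _ ⟨x, hx, rfl⟩
      have h1 : algebraMap T R (u * x) ∈ Q'.map (algebraMap T R) := Ideal.mem_map_of_mem _ (huJ x (hGJ hx))
      have h2 : Q'.map (algebraMap T R) ≤ Q.map (algebraMap T R) ⊔ J.map (algebraMap T R) • M := by
        rw [Ideal.map_sup, Ideal.map_mul]
        exact sup_mul_le_of_le _ _ _ hJR
      rw [map_mul] at h1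
      have hunit : IsUnit (algebraMap T R u) := IsLocalization.map_units R (⟨u, huq⟩ : q.primeCompl)
      exact (Ideal.unit_mul_mem_iff_mem _ hunit).1 (h2 h1)
  have hx : ∀ x ∈ G, ∃ w ∉ q, w * x ∈ Q := fun x hx => by
    obtain ⟨w, hw, hwx⟩ := (IsLocalization.algebraMap_mem_map_algebraMap_iff q.primeCompl R Q x).1
      (hMQ (Ideal.subset_span ⟨x, hx, rfl⟩))
    exact ⟨w, hw, hwx⟩
  choose! w hw hwx using hx
  refine ⟨∏ x ∈ G, w x, fun hm => ?_, fun x hx => ?_⟩
  · obtain ⟨x, hx, hxq⟩ := Ideal.IsPrime.prod_mem_iff.1 hm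
    exact hw x hx hxq
  · obtain ⟨y, hy, z, hz, rfl⟩ := Submodule.mem_sup.1 (hG hx)
    rw [mul_add]
    refine add_mem ?_ (Ideal.mul_mem_left _ _ (Ideal.mem_sup_right hz))
    clear hx
    induction hy using Submodule.span_induction with
    | mem v hv =>
      rw [← Finset.mul_prod_erase G w hv, mul_right_comm]
      exact Ideal.mul_mem_right _ _ (hwx v hv)
    | zero => rw [mul_zero]; exact zero_mem _
    | add v v' _ _ hv hv' => rw [mul_add]; exact add_mem hv hv'
    | smul c v _ hv => rw [smul_eq_mul, mul_left_comm]; exact Ideal.mul_mem_left _ c hv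

end Groth.Agent.SmSliceSubLib
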