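import Groth.Agent.SmSliceSubLib.Alg

/-!
The dimension of the span of the differentials of the ideal of a smooth closed subscheme.
-/

set_option autoImplicit false
set_option linter.style.haveILetI false
universe u
open TensorProduct KaehlerDifferential Module

namespace Groth.Agent.SmSliceSubLib

variable {A T : Type u} [CommRing A] [CommRing T] [Algebra A T]

theorem finrank_tensor_kaehler (n : ℕ)
    (hloc : RingHom.Locally (RingHom.IsStandardSmoothOfRelativeDimension n) (algebraMap A T))
    (K : Type u) [Field K] [Algebra T K] : Module.finrank K (K ⊗[T] Ω[T⁄A]) = n := by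
  obtain ⟨s, hs, hst⟩ := hloc
  obtain ⟨g, hgs, hg⟩ : ∃ g ∈ s, algebraMap T K g ≠ 0 := by
    by_contra hne
    push Not at hne
    have h1 : (1 : T) ∈ RingHom.ker (algebraMap T K) :=
      (Ideal.span_le.2 fun g hg => hne g hg) (hs ▸ Submodule.mem_top)
    exact one_ne_zero ((map_one (algebraMap T K)).symm.trans h1)
  let U := Localization.Away g
  have hU := hst g hgs
  rw [← IsScalarTower.algebraMap_eq A T U] at hU
  haveI : Algebra.IsStandardSmoothOfRelativeDimension n A U :=
    (RingHom.isStandardSmoothOfRelativeDimension_algebraMap n).1 hU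
  haveI : Algebra.IsStandardSmooth A U :=
    Algebra.IsStandardSmoothOfRelativeDimension.isStandardSmooth n
  letI : Algebra U K := (IsLocalization.Away.lift g (g := algebraMap T K) (IsUnit.mk0 _ hg)).toAlgebra
  haveI : IsScalarTower T U K := .of_algebraMap_eq fun t => (IsLocalization.Away.lift_eq g (IsUnit.mk0 _ hg) t).symm
  haveI : Nontrivial U := RingHom.domain_nontrivial (algebraMap U K)
  haveI : Algebra.FormallyEtale T U := Algebra.FormallyEtale.of_isLocalization (Submonoid.powers g)
  let e : K ⊗[T] Ω[T⁄A] ≃ₗ[K] K ⊗[U] Ω[U⁄A] :=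
    (AlgebraTensorModule.cancelBaseChange T U K K Ω[T⁄A]).symm.trans
      (AlgebraTensorModule.congr (LinearEquiv.refl K K)
        (KaehlerDifferential.isBaseChange_of_formallyEtale A T U).equiv)
  rw [e.finrank_eq, Module.finrank_baseChange]
  exact Module.finrank_eq_of_rank_eq (Algebra.IsStandardSmoothOfRelativeDimension.rank_kaehlerDifferential n)

variable (A T) in
/-- Derivations into a field as linear forms on the differentials at the point. -/
noncomputable def derDual (K : Type u) [Field K] [Algebra A K] [Algebra T K] [IsScalarTower A T K] :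
    Module.Dual K (K ⊗[T] Ω[T⁄A]) ≃ₗ[K] Derivation A T K :=
  (((LinearMap.liftBaseChangeEquiv K (R := T) (M := Ω[T⁄A]) (N := K)).symm.toAddEquiv).trans
      (KaehlerDifferential.linearMapEquivDerivation A T).toAddEquiv).toLinearEquiv fun _ _ => Derivation.ext fun _ => rfl

theorem derDual_apply (K : Type u) [Field K] [Algebra A K] [Algebra T K] [IsScalarTower A T K]
    (φ : Module.Dual K (K ⊗[T] Ω[T⁄A])) (t : T) : derDual A T K φ t = φ (dAt A K t) := rfl

/-- The span of the differentials of the ideal has the complementary dimension. -/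
theorem finrank_span_dAt (a : Ideal A) (J : Ideal T) [Algebra (A ⧸ a) (T ⧸ J)]
    [IsScalarTower A (A ⧸ a) (T ⧸ J)] (q : Ideal T) [q.IsPrime] (hJq : J ≤ q) (n e : ℕ)
    (hT : RingHom.Locally (RingHom.IsStandardSmoothOfRelativeDimension n) (algebraMap A T))
    (hS : RingHom.Locally (RingHom.IsStandardSmoothOfRelativeDimension e) (algebraMap (A ⧸ a) (T ⧸ J)))
    [Module.Finite T Ω[T⁄A]] :
    Module.finrank q.ResidueField (Submodule.span q.ResidueField (dAt A q.ResidueField '' (J : Set T))) + e = n := by
  let K := q.ResidueField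
  let S := T ⧸ J
  letI : Algebra S K := (Ideal.Quotient.lift J (algebraMap T K)
    fun x hx => Ideal.algebraMap_residueField_eq_zero.2 (hJq hx)).toAlgebra
  haveI : IsScalarTower T S K := .of_algebraMap_eq fun t => rfl
  letI : Algebra (A ⧸ a) K := ((algebraMap S K).comp (algebraMap (A ⧸ a) S)).toAlgebra
  haveI : IsScalarTower (A ⧸ a) S K := .of_algebraMap_eq fun t => rfl
  haveI : IsScalarTower A (A ⧸ a) K := .of_algebraMap_eq fun c => by
    show algebraMap A K c = algebraMap S K (algebraMap (A ⧸ a) S (algebraMap A (A ⧸ a) c))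
    rw [← IsScalarTower.algebraMap_apply A (A ⧸ a) S, IsScalarTower.algebraMap_apply A T K]
    rfl
  haveI : IsScalarTower A S K := .of_algebraMap_eq fun c => by
    rw [IsScalarTower.algebraMap_apply A T K]
    rfl
  let W := Submodule.span K (dAt A K '' (J : Set T))
  let Φ : Derivation (A ⧸ a) S K →ₗ[K] Derivation A T K :=
    { toFun := fun d => (d.restrictScalars A).compAlgebraMap T
      map_add' := fun _ _ => rfl
      map_smul' := fun _ _ => rfl }
  have hΦ : ∀ d t, Φ d t = d (Ideal.Quotient.mk J t) := fun d t => rfl
  let Ψ := ((derDual A T K).symm.toLinearMap).comp Φ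
  have hΨ : ∀ d t, Ψ d (dAt A K t) = d (Ideal.Quotient.mk J t) := fun d t => by
    rw [← derDual_apply K (Ψ d) t, ← hΦ]
    exact DFunLike.congr_fun ((derDual A T K).apply_symm_apply (Φ d)) t
  have hinj : Function.Injective Ψ := fun d d' hd => Derivation.ext fun x => by
    obtain ⟨t, rfl⟩ := Ideal.Quotient.mk_surjective x
    rw [← hΨ, ← hΨ, hd]
  have hrange : LinearMap.range Ψ = W.dualAnnihilator := by
    refine le_antisymm ?_ fun φ hφ => ?_
    · rintro _ ⟨d, rfl⟩
      rw [Submodule.mem_dualAnnihilator]
      intro w hw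
      induction hw using Submodule.span_induction with
      | mem w hw =>
        obtain ⟨t, ht, rfl⟩ := hw
        rw [hΨ, show Ideal.Quotient.mk J t = 0 from Ideal.Quotient.eq_zero_iff_mem.2 ht, map_zero]
      | zero => rw [map_zero]
      | add x y _ _ hx hy => rw [map_add, hx, hy, add_zero]
      | smul c x _ hx => rw [map_smul, hx, smul_zero]
    · rw [Submodule.mem_dualAnnihilator] at hφ
      let δ := derDual A T K φ
      have hker : ∀ t ∈ J, δ t = 0 := fun t ht => hφ _ (Submodule.subset_span ⟨t, ht, rfl⟩)
      let l : S → K := Quotient.lift (fun t => δ t) fun t t' htt' => by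
        have hmem : t - t' ∈ J := (Submodule.quotientRel_def _).1 htt'
        exact sub_eq_zero.1 ((map_sub δ t t').symm.trans (hker _ hmem))
      have hl : ∀ t, l (Ideal.Quotient.mk J t) = δ t := fun t => rfl
      let d : Derivation (A ⧸ a) S K := Derivation.mk'
        { toFun := l
          map_add' := fun x y => by
            obtain ⟨x, rfl⟩ := Ideal.Quotient.mk_surjective x
            obtain ⟨y, rfl⟩ := Ideal.Quotient.mk_surjective y
            rw [← map_add, hl, hl, hl, map_add]
          map_smul' := fun c x => by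
            obtain ⟨c, rfl⟩ := Ideal.Quotient.mk_surjective c
            obtain ⟨x, rfl⟩ := Ideal.Quotient.mk_surjective x
            show l (algebraMap A (A ⧸ a) c • Ideal.Quotient.mk J x) = algebraMap A (A ⧸ a) c • l (Ideal.Quotient.mk J x)
            rw [algebraMap_smul, algebraMap_smul, show c • Ideal.Quotient.mk J x = Ideal.Quotient.mk J (c • x) from rfl,
              hl, hl, Derivation.map_smul] }
        fun x y => by
          obtain ⟨x, rfl⟩ := Ideal.Quotient.mk_surjective x
          obtain ⟨y, rfl⟩ := Ideal.Quotient.mk_surjective y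
          show l (Ideal.Quotient.mk J x * Ideal.Quotient.mk J y) =
            Ideal.Quotient.mk J x • l (Ideal.Quotient.mk J y) + Ideal.Quotient.mk J y • l (Ideal.Quotient.mk J x)
          rw [← map_mul, hl, hl, hl, Derivation.leibniz]
          show x • δ y + y • δ x = Ideal.Quotient.mk J x • δ y + Ideal.Quotient.mk J y • δ x
          rw [← Ideal.Quotient.algebraMap_eq, algebraMap_smul, algebraMap_smul]
      refine ⟨d, (derDual A T K).injective (Derivation.ext fun t => ?_)⟩
      rw [derDual_apply, derDual_apply, hΨ]
      rfl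
  have h1 := Subspace.finrank_add_finrank_dualAnnihilator_eq W
  rw [← hrange, LinearMap.finrank_range_of_inj hinj, ← (derDual (A ⧸ a) S K).finrank_eq,
    Subspace.dual_finrank_eq, finrank_tensor_kaehler e hS K, finrank_tensor_kaehler n hT K] at h1
  exact h1

end Groth.Agent.SmSliceSubLib
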