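import Groth.Agent.SmSliceSubLib.Local
import Groth.Agent.IdealStalkLib.Comap

/-!
Smooth subschemes containing a closed subscheme smooth over a closed subscheme of the base, near finitely many points.
-/

set_option autoImplicit false
set_option linter.style.haveILetI false
set_option maxHeartbeats 1000000
set_option backward.isDefEq.respectTransparency false

universe u

open CategoryTheory CategoryTheory.Limits AlgebraicGeometry TopologicalSpace Opposite Module

noncomputable section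

namespace Groth.Agent.SmSliceSubLib

variable {X₁ X₂ Z₁ Z₂ : Scheme.{u}}

/-- The zero ideal sheaf of functions on an open containing the open `U`. -/
def spanSheaf {V U : X₂.Opens} (hUV : U ≤ V) {r : ℕ} (h : Fin r → Γ(X₂, V)) : (U : Scheme.{u}).IdealSheafData where
  ideal E := Ideal.span (Set.range fun i =>
    U.ι.appLE V E.1 (fun x _ => hUV x.2) (h i))
  map_ideal_basicOpen E b := by
    rw [Ideal.map_span, ← Set.range_comp]
    congr 2
    funext i
    show (U : Scheme.{u}).presheaf.map _ (U.ι.appLE V E.1 _ (h i)) = _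
    rw [← ConcreteCategory.comp_apply, Scheme.Hom.appLE_map]
    rfl

/-- An open on which functions cut out a smooth subscheme with the prescribed intersection with the preimage. -/
structure Piece (i₁ : Z₁ ⟶ X₁) (i₂ : Z₂ ⟶ X₂) [IsClosedImmersion i₁] [IsClosedImmersion i₂] (f : X₂ ⟶ X₁)
    (V : X₂.Opens) {r : ℕ} (h : Fin r → Γ(X₂, V)) where
  /-- The open. -/
  D : X₂.Opens
  hD : IsAffineOpen D
  hDV : D ≤ V
  /-- The open of the base. -/
  U : X₁.Opens
  hU : IsAffineOpen U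
  hDU : D ≤ f ⁻¹ᵁ U
  smooth : ((Ideal.Quotient.mk (Ideal.span (Set.range fun i => X₂.presheaf.map (homOfLE hDV).op (h i)))).comp
    (f.appLE U D hDU).hom).Smooth
  le : i₂.ker.ideal ⟨D, hD⟩ ≤ Ideal.span (Set.range fun i => X₂.presheaf.map (homOfLE hDV).op (h i)) ⊔
    (i₁.ker.ideal ⟨U, hU⟩).map (f.appLE U D hDU).hom

theorem morphismRestrict_ker (i₂ : Z₂ ⟶ X₂) [IsClosedImmersion i₂] (U : X₂.Opens) :
    (i₂ ∣_ U).ker = i₂.ker.comap U.ι := by
  rw [← Scheme.IdealSheafData.ker_fst_of_isClosedImmersion i₂ U.ι,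
    ← Scheme.Hom.ker_comp_of_isIso ((isPullback_morphismRestrict i₂ U).isoPullback.hom) (pullback.fst U.ι i₂),
    IsPullback.isoPullback_hom_fst]

/-- The glued slice. -/
theorem exists_slice_of_pieces (i₁ : Z₁ ⟶ X₁) (i₂ : Z₂ ⟶ X₂) [IsClosedImmersion i₁] [IsClosedImmersion i₂]
    (f : X₂ ⟶ X₁) (g : Z₂ ⟶ Z₁) (hsq : i₂ ≫ f = g ≫ i₁) {V : X₂.Opens} (hV : IsAffineOpen V) {r : ℕ}
    (h : Fin r → Γ(X₂, V)) (hI : ∀ i, h i ∈ i₂.ker.ideal ⟨V, hV⟩) {ι : Type*} (P : ι → Piece i₁ i₂ f V h) :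
    ∃ (W : Scheme.{u}) (k : W ⟶ ((⨆ t, (P t).D : X₂.Opens) : Scheme.{u}))
      (m : ((i₂ ⁻¹ᵁ (⨆ t, (P t).D) : Z₂.Opens) : Scheme.{u}) ⟶ W),
      IsClosedImmersion k ∧ m ≫ k = i₂ ∣_ (⨆ t, (P t).D) ∧
        AlgebraicGeometry.Smooth (k ≫ (⨆ t, (P t).D : X₂.Opens).ι ≫ f) ∧
        IsPullback m ((i₂ ⁻¹ᵁ (⨆ t, (P t).D)).ι ≫ g) (k ≫ (⨆ t, (P t).D : X₂.Opens).ι ≫ f) i₁ := by
  set U : X₂.Opens := ⨆ t, (P t).D with hUdef
  have hUV : U ≤ V := iSup_le fun t => (P t).hDV
  have hDle : ∀ t, (P t).D ≤ U := fun t => le_iSup (fun t => (P t).D) t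
  let H := spanSheaf hUV h
  let k := H.subschemeι
  let i' := i₂ ∣_ U
  have hker : H ≤ i'.ker := by
    intro E
    rw [morphismRestrict_ker, IdealStalkLib.comap_ideal i₂.ker U.ι hV E.2 (fun x _ => hUV x.2)]
    exact Ideal.span_le.2 (Set.range_subset_iff.2 fun i => Ideal.mem_map_of_mem _ (hI i))
  let m := IsClosedImmersion.lift k i' (by rw [H.ker_subschemeι]; exact hker)
  have hm : m ≫ k = i' := IsClosedImmersion.lift_fac _ _ _
  haveI : IsClosedImmersion (m ≫ k) := by rw [hm]; infer_instance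
  haveI : IsClosedImmersion m := IsClosedImmersion.of_comp m k
  -- the charts
  let E : ι → (U : Scheme.{u}).affineOpens := fun t => ⟨U.ι ⁻¹ᵁ (P t).D,
    (P t).hD.preimage_of_isOpenImmersion U.ι (by rw [Scheme.Opens.opensRange_ι]; exact hDle t)⟩
  have hcov : ⨆ t, U.ι ⁻¹ᵁ (P t).D = ⊤ := by
    rw [← Scheme.Hom.preimage_iSup]
    exact eq_top_iff.2 fun x _ => x.2
  let F : ι → H.subscheme.affineOpens := fun t => ⟨k ⁻¹ᵁ (E t).1, (E t).2.preimage k⟩
  let φ : ∀ t, Γ(X₂, (P t).D) →+* Γ(H.subscheme, (F t).1) := fun t =>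
    (k.app (E t).1).hom.comp (U.ι.app (P t).D).hom
  have hψ : ∀ t, Function.Bijective (U.ι.app (P t).D).hom := fun t => by
    haveI := Scheme.Hom.isIso_app U.ι (P t).D (by rw [Scheme.Opens.opensRange_ι]; exact hDle t)
    exact ConcreteCategory.bijective_of_isIso (U.ι.app (P t).D)
  have hφs : ∀ t, Function.Surjective (φ t) := fun t =>
    (k.app_surjective _ (E t).2).comp (hψ t).2
  let S : ∀ t, Ideal Γ(X₂, (P t).D) := fun t =>
    Ideal.span (Set.range fun i => X₂.presheaf.map (homOfLE (P t).hDV).op (h i))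
  have hHS : ∀ t, H.ideal (E t) = (S t).map (U.ι.app (P t).D).hom := fun t => by
    show Ideal.span _ = Ideal.map _ (Ideal.span _)
    rw [Ideal.map_span, ← Set.range_comp]
    congr 2
    funext i
    show U.ι.appLE V _ _ (h i) = U.ι.app (P t).D (X₂.presheaf.map (homOfLE (P t).hDV).op (h i))
    rw [Scheme.Hom.app_eq_appLE, ← ConcreteCategory.comp_apply (X₂.presheaf.map _), Scheme.Hom.map_appLE]
  have hφk : ∀ t, RingHom.ker (φ t) = S t := fun t => by
    rw [← RingHom.comap_ker, show RingHom.ker (k.app (E t).1).hom = H.ideal (E t) from H.ker_subschemeι_app (E t), hHS,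
      Ideal.comap_map_of_bijective _ (hψ t)]
  have happ : ∀ t (e : (F t).1 ≤ (k ≫ U.ι ≫ f) ⁻¹ᵁ (P t).U),
      ((k ≫ U.ι ≫ f).appLE (P t).U (F t).1 e).hom = (φ t).comp (f.appLE (P t).U (P t).D (P t).hDU).hom := fun t e => by
    have : (k ≫ U.ι ≫ f).appLE (P t).U (F t).1 e =
        f.appLE (P t).U (P t).D (P t).hDU ≫ U.ι.app (P t).D ≫ k.app (E t).1 := by
      show _ = f.appLE (P t).U (P t).D (P t).hDU ≫ U.ι.app (P t).D ≫ k.app (U.ι ⁻¹ᵁ (P t).D)
      simp only [Scheme.Hom.app_eq_appLE, Scheme.Hom.appLE_comp_appLE, Category.assoc]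
      rfl
    rw [this]
    rfl
  have he : ∀ t, (F t).1 ≤ (k ≫ U.ι ≫ f) ⁻¹ᵁ (P t).U := fun t x hx => (P t).hDU hx
  have hsm : AlgebraicGeometry.Smooth (k ≫ U.ι ≫ f) := by
    rw [HasRingHomProperty.iff_exists_appLE (P := @AlgebraicGeometry.Smooth)
      (RingHom.Smooth.stableUnderComposition.stableUnderCompositionWithLocalizationAway RingHom.Smooth.holdsForLocalizationAway).left]
    intro w
    obtain ⟨t, ht⟩ := Opens.mem_iSup.1 (hcov.ge (Opens.mem_top (k w)))
    refine ⟨⟨(P t).U, (P t).hU⟩, F t, ht, he t, ?_⟩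
    rw [happ t (he t)]
    have e1 : φ t = ((RingHom.quotientKerEquivOfSurjective (hφs t)).toRingHom.comp
        (Ideal.quotEquivOfEq (hφk t).symm).toRingHom).comp (Ideal.Quotient.mk (S t)) := RingHom.ext fun x => rfl
    rw [e1, RingHom.comp_assoc, RingHom.comp_assoc]
    exact RingHom.Smooth.respectsIso.1 _ _ (RingHom.Smooth.respectsIso.1 _ _ (P t).smooth)
  have hfac : ((i₂ ⁻¹ᵁ U).ι ≫ g) ≫ i₁ = m ≫ k ≫ U.ι ≫ f := by
    rw [← Category.assoc m, hm, Category.assoc, ← hsq, morphismRestrict_ι_assoc]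
  refine ⟨H.subscheme, k, m, inferInstance, hm, hsm,
    isPullback_of_isClosedImmersion m i₁ _ _ hfac.symm ?_⟩
  have hle : i₁.ker.comap (k ≫ U.ι ≫ f) ≤ m.ker := by
    rw [← Scheme.IdealSheafData.le_map_iff_comap_le, ← Scheme.Hom.ker_comp, ← hfac]
    exact Scheme.Hom.le_ker_comp _ _
  refine le_antisymm hle (Scheme.IdealSheafData.le_of_iSup_eq_top F ?_ fun t => ?_)
  · rw [← Scheme.Hom.preimage_iSup, show ⨆ t, (E t).1 = ⊤ from hcov, Scheme.Hom.preimage_top]
  have hJ : i'.ker.ideal (E t) = (i₂.ker.ideal ⟨(P t).D, (P t).hD⟩).map (U.ι.app (P t).D).hom := by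
    rw [morphismRestrict_ker]
    refine (IdealStalkLib.comap_ideal i₂.ker U.ι (P t).hD (E t).2 le_rfl).trans ?_
    rw [Scheme.Hom.app_eq_appLE]
  have hcm : i'.ker.ideal (E t) = (m.ker.ideal (F t)).comap (k.app (E t).1).hom := by
    rw [← hm, Scheme.Hom.ker_comp, Scheme.IdealSheafData.ideal_map_of_isAffineHom]
  have hmk : m.ker.ideal (F t) = (i₂.ker.ideal ⟨(P t).D, (P t).hD⟩).map (φ t) := by
    rw [← Ideal.map_comap_of_surjective (k.app (E t).1).hom (k.app_surjective _ (E t).2) (m.ker.ideal (F t)), ← hcm, hJ,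
      Ideal.map_map]
  rw [IdealStalkLib.comap_ideal i₁.ker (k ≫ U.ι ≫ f) (P t).hU (F t).2 (he t), happ t (he t), hmk, ← Ideal.map_map (f.appLE (P t).U (P t).D (P t).hDU).hom (φ t)]
  refine le_trans (Ideal.map_mono (f := φ t) (P t).le) ?_
  rw [Ideal.map_sup]
  refine sup_le ?_ le_rfl
  have h0 : Ideal.map (φ t) (S t) = ⊥ := (Ideal.map_eq_bot_iff_le_ker _).2 (hφk t).ge
  exact h0.le.trans bot_le

end Groth.Agent.SmSliceSubLib
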