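import Groth.Agent.SmSliceSubLib.Dim
import Groth.Agent.SmoothSliceLib.Scheme

/-!
Local smooth slices containing a closed subscheme smooth over a closed subscheme of the base.
-/

set_option autoImplicit false
set_option linter.style.haveILetI false
set_option maxHeartbeats 1000000
set_option backward.isDefEq.respectTransparency false

universe u

open CategoryTheory CategoryTheory.Limits AlgebraicGeometry TopologicalSpace Opposite Module

namespace Groth.Agent.SmSliceSubLib

section Ring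

/-- Smoothness of a slice passes to smaller localizations. -/
theorem smooth_quot_loc {A T : Type u} [CommRing A] [CommRing T] [Algebra A T] {r : ℕ} (h : Fin r → T) (Dt Dt' : T)
    (hsm : Algebra.Smooth A
      (Localization.Away Dt ⧸ Ideal.span (Set.range fun i => algebraMap T (Localization.Away Dt) (h i))))
    (U : Type u) [CommRing U] [Algebra A U] [Algebra T U] [IsScalarTower A T U] [IsLocalization.Away (Dt * Dt') U] :
    Algebra.Smooth A (U ⧸ Ideal.span (Set.range fun i => algebraMap T U (h i))) := by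
  let TD := Localization.Away Dt
  have hu : IsUnit (algebraMap T U Dt) := by
    have := IsLocalization.Away.algebraMap_isUnit (S := U) (Dt * Dt')
    rw [map_mul] at this
    exact isUnit_of_mul_isUnit_left this
  letI : Algebra TD U := (IsLocalization.Away.lift Dt hu).toAlgebra
  haveI : IsScalarTower T TD U := .of_algebraMap_eq fun t => (IsLocalization.Away.lift_eq Dt hu t).symm
  haveI : Algebra.Etale T TD := Algebra.Etale.of_isLocalizationAway Dt
  haveI : Algebra.Etale T U := Algebra.Etale.of_isLocalizationAway (Dt * Dt')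
  haveI : Algebra.Etale TD U := Algebra.Etale.of_restrictScalars T TD U
  let I : Ideal TD := Ideal.span (Set.range fun i => algebraMap T TD (h i))
  have hI : I.map (algebraMap TD U) = Ideal.span (Set.range fun i => algebraMap T U (h i)) := by
    rw [Ideal.map_span, ← Set.range_comp]
    congr 2
    funext i
    exact (IsScalarTower.algebraMap_apply T TD U (h i)).symm
  rw [← hI]
  haveI : Algebra.Smooth A (TD ⧸ I) := hsm
  refine SmoothSliceLib.smooth_quot (C := TD) (RingHom.ext fun c => ?_) I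
  rw [RingHom.comp_apply, IsScalarTower.algebraMap_apply A T TD, ← IsScalarTower.algebraMap_apply T TD U,
    ← IsScalarTower.algebraMap_apply]

end Ring

variable {X₁ X₂ Z₁ Z₂ : Scheme.{u}}

/-- The prime of a point in the sections over an open. -/
noncomputable def ptIdeal (X : Scheme.{u}) (W : X.Opens) (t : X) (ht : t ∈ W) : Ideal Γ(X, W) :=
  RingHom.ker (X.evaluation W t ht).hom

instance (X : Scheme.{u}) (W : X.Opens) (t : X) (ht : t ∈ W) : (ptIdeal X W t ht).IsPrime :=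
  RingHom.ker_isPrime _

theorem mem_ptIdeal {X : Scheme.{u}} {W : X.Opens} {t : X} {ht : t ∈ W} {r : Γ(X, W)} :
    r ∈ ptIdeal X W t ht ↔ t ∉ X.basicOpen r :=
  RingHom.mem_ker.trans (X.evaluation_eq_zero_iff_notMem_basicOpen t ht r)

theorem mem_basicOpen_of_notMem {X : Scheme.{u}} {W : X.Opens} {t : X} {ht : t ∈ W} {r : Γ(X, W)}
    (h : r ∉ ptIdeal X W t ht) : t ∈ X.basicOpen r := not_not.1 (mem_ptIdeal.not.1 h)

theorem res_mem_ptIdeal {X : Scheme.{u}} {V W : X.Opens} (hWV : W ≤ V) {t : X} (ht : t ∈ W) (r : Γ(X, V)) :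
    X.presheaf.map (homOfLE hWV).op r ∈ ptIdeal X W t ht ↔ r ∈ ptIdeal X V t (hWV ht) := by
  rw [mem_ptIdeal, mem_ptIdeal, Scheme.basicOpen_res]
  exact not_congr ⟨fun h => h.2, fun h => ⟨ht, h⟩⟩

/-- A chart at a point inside a given affine open. -/
structure SChart (n : ℕ) (f : X₂ ⟶ X₁) (V : X₂.Opens) (t : X₂) where
  /-- The open of the base. -/
  U : X₁.Opens
  hU : IsAffineOpen U
  /-- The function cutting out the open of the source. -/
  g : Γ(X₂, V)
  mem : t ∈ X₂.basicOpen g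
  le : X₂.basicOpen g ≤ f ⁻¹ᵁ U
  std : RingHom.IsStandardSmoothOfRelativeDimension n (f.appLE U (X₂.basicOpen g) le).hom

theorem exists_sChart (n : ℕ) (f : X₂ ⟶ X₁) [SmoothOfRelativeDimension n f] {V : X₂.Opens} (hV : IsAffineOpen V)
    (t : X₂) (ht : t ∈ V) : Nonempty (SChart n f V t) := by
  obtain ⟨U, hU, U₂, hU₂, htU₂, e, hstd⟩ :=
    SmoothOfRelativeDimension.exists_isStandardSmoothOfRelativeDimension (n := n) (f := f) t
  obtain ⟨f₂, g, hfg, htf⟩ := exists_basicOpen_le_affine_inter hU₂ hV t ⟨htU₂, ht⟩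
  have hle : X₂.basicOpen f₂ ≤ f ⁻¹ᵁ U := (X₂.basicOpen_le f₂).trans e
  have h : RingHom.IsStandardSmoothOfRelativeDimension n (f.appLE U (X₂.basicOpen f₂) hle).hom := by
    have hc : f.appLE U U₂ e ≫ X₂.presheaf.map (homOfLE (X₂.basicOpen_le f₂)).op = f.appLE U (X₂.basicOpen f₂) hle :=
      Scheme.Hom.appLE_map _ _ _
    rw [← hc]
    algebraize [(X₂.presheaf.map (homOfLE (X₂.basicOpen_le f₂)).op).hom]
    haveI := hU₂.isLocalization_basicOpen f₂
    exact (RingHom.isStandardSmoothOfRelativeDimension_stableUnderCompositionWithLocalizationAway n).right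
      _ f₂ _ hstd
  revert hle
  rw [hfg]
  exact fun hle h => ⟨⟨U, hU, g, hfg ▸ htf, hle, h⟩⟩

/-- The differential of a function on `V` at the point of a chart. -/
noncomputable def dPt {n : ℕ} {f : X₂ ⟶ X₁} {V : X₂.Opens} {t : X₂} (c : SChart n f V t) :
    letI := (f.appLE c.U (X₂.basicOpen c.g) c.le).hom.toAlgebra
    Γ(X₂, V) → TensorProduct Γ(X₂, X₂.basicOpen c.g) (ptIdeal X₂ (X₂.basicOpen c.g) t c.mem).ResidueField
      (KaehlerDifferential Γ(X₁, c.U) Γ(X₂, X₂.basicOpen c.g)) :=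
  letI := (f.appLE c.U (X₂.basicOpen c.g) c.le).hom.toAlgebra
  fun b => dAt Γ(X₁, c.U) (ptIdeal X₂ (X₂.basicOpen c.g) t c.mem).ResidueField
    (X₂.presheaf.map (homOfLE (X₂.basicOpen_le c.g)).op b)

/-- The functions have independent differentials at the point. -/
def IndepAt {n : ℕ} {f : X₂ ⟶ X₁} {V : X₂.Opens} {t : X₂} (c : SChart n f V t) {r : ℕ}
    (h : Fin r → Γ(X₂, V)) : Prop :=
  letI := (f.appLE c.U (X₂.basicOpen c.g) c.le).hom.toAlgebra
  LinearIndependent (ptIdeal X₂ (X₂.basicOpen c.g) t c.mem).ResidueField fun i => dPt c (h i)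

section Square

variable (i₁ : Z₁ ⟶ X₁) (i₂ : Z₂ ⟶ X₂) [IsClosedImmersion i₁] [IsClosedImmersion i₂]
  (f : X₂ ⟶ X₁) (g : Z₂ ⟶ Z₁) (hsq : i₂ ≫ f = g ≫ i₁)

include hsq in
theorem preimage_le {U : X₁.Opens} {W : X₂.Opens} (hle : W ≤ f ⁻¹ᵁ U) : i₂ ⁻¹ᵁ W ≤ g ⁻¹ᵁ (i₁ ⁻¹ᵁ U) := by
  intro z hz
  show i₁ (g z) ∈ U
  rw [← Scheme.Hom.comp_apply, ← hsq, Scheme.Hom.comp_apply]
  exact hle hz

include hsq in
theorem appLE_app {U : X₁.Opens} {W : X₂.Opens} (hle : W ≤ f ⁻¹ᵁ U) (x : Γ(X₁, U)) :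
    i₂.app W (f.appLE U W hle x) =
      g.appLE (i₁ ⁻¹ᵁ U) (i₂ ⁻¹ᵁ W) (preimage_le i₁ i₂ f g hsq hle) (i₁.app U x) := by
  rw [Scheme.Hom.app_eq_appLE, Scheme.Hom.app_eq_appLE, ← ConcreteCategory.comp_apply,
    Scheme.Hom.appLE_comp_appLE, ← ConcreteCategory.comp_apply, Scheme.Hom.appLE_comp_appLE]
  simp only [hsq]

include hsq in
theorem le_comap_ker {U : X₁.Opens} (hU : IsAffineOpen U) {W : X₂.Opens} (hW : IsAffineOpen W) (hle : W ≤ f ⁻¹ᵁ U) :
    i₁.ker.ideal ⟨U, hU⟩ ≤ (i₂.ker.ideal ⟨W, hW⟩).comap (f.appLE U W hle).hom := fun x hx => by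
  rw [Scheme.Hom.ker_apply, RingHom.mem_ker] at hx
  rw [Ideal.mem_comap, Scheme.Hom.ker_apply, RingHom.mem_ker, appLE_app i₁ i₂ f g hsq hle x, hx, map_zero]

include hsq in
theorem quotientMap_prop {U : X₁.Opens} (hU : IsAffineOpen U) {W : X₂.Opens} (hW : IsAffineOpen W)
    (hle : W ≤ f ⁻¹ᵁ U) {P : ∀ {R S : Type u} [CommRing R] [CommRing S], (R →+* S) → Prop}
    (hP : RingHom.RespectsIso @P)
    (hg : P (g.appLE (i₁ ⁻¹ᵁ U) (i₂ ⁻¹ᵁ W) (preimage_le i₁ i₂ f g hsq hle)).hom) :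
    P (Ideal.quotientMap (i₂.ker.ideal ⟨W, hW⟩) (f.appLE U W hle).hom (le_comap_ker i₁ i₂ f g hsq hU hW hle)) := by
  let e₁ : (Γ(X₁, U) ⧸ i₁.ker.ideal ⟨U, hU⟩) ≃+* Γ(Z₁, i₁ ⁻¹ᵁ U) :=
    (Ideal.quotEquivOfEq (Scheme.Hom.ker_apply i₁ ⟨U, hU⟩)).trans
      (RingHom.quotientKerEquivOfSurjective (i₁.app_surjective U hU))
  let e₂ : (Γ(X₂, W) ⧸ i₂.ker.ideal ⟨W, hW⟩) ≃+* Γ(Z₂, i₂ ⁻¹ᵁ W) :=
    (Ideal.quotEquivOfEq (Scheme.Hom.ker_apply i₂ ⟨W, hW⟩)).trans
      (RingHom.quotientKerEquivOfSurjective (i₂.app_surjective W hW))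
  have h : Ideal.quotientMap (i₂.ker.ideal ⟨W, hW⟩) (f.appLE U W hle).hom (le_comap_ker i₁ i₂ f g hsq hU hW hle) =
      (e₂.symm.toRingHom.comp (g.appLE (i₁ ⁻¹ᵁ U) (i₂ ⁻¹ᵁ W) (preimage_le i₁ i₂ f g hsq hle)).hom).comp
        e₁.toRingHom := by
    refine RingHom.ext fun x => ?_
    obtain ⟨x, rfl⟩ := Ideal.Quotient.mk_surjective x
    refine e₂.injective ?_
    simp only [RingHom.coe_comp, Function.comp_apply, RingEquiv.toRingHom_eq_coe, RingHom.coe_coe,
      e₂.apply_symm_apply, Ideal.quotientMap_mk]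
    exact appLE_app i₁ i₂ f g hsq hle x
  rw [h]
  exact hP.2 _ _ (hP.1 _ _ hg)

variable {n e : ℕ} [SmoothOfRelativeDimension e g]

include hsq in
/-- The differentials of the ideal of the closed subscheme at one of its points. -/
theorem exists_selection {V : X₂.Opens} (hV : IsAffineOpen V) {t : X₂} (htV : t ∈ V) (htZ : t ∈ Set.range i₂.base)
    (c : SChart n f V t) :
    ∃ r, r + e = n ∧ (∃ h : Fin r → Γ(X₂, V), (∀ i, h i ∈ i₂.ker.ideal ⟨V, hV⟩) ∧ IndepAt c h) ∧
      ∀ h : Fin r → Γ(X₂, V), (∀ i, h i ∈ i₂.ker.ideal ⟨V, hV⟩) → IndepAt c h →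
        ∃ (D : X₂.Opens) (hD : IsAffineOpen D) (hDV : D ≤ V) (hDU : D ≤ f ⁻¹ᵁ c.U), t ∈ D ∧
          ((Ideal.Quotient.mk (Ideal.span (Set.range fun i => X₂.presheaf.map (homOfLE hDV).op (h i)))).comp
            (f.appLE c.U D hDU).hom).Smooth ∧
          i₂.ker.ideal ⟨D, hD⟩ ≤ Ideal.span (Set.range fun i => X₂.presheaf.map (homOfLE hDV).op (h i)) ⊔
            (i₁.ker.ideal ⟨c.U, c.hU⟩).map (f.appLE c.U D hDU).hom := by
  classical
  let W := X₂.basicOpen c.g
  have hWV : W ≤ V := X₂.basicOpen_le c.g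
  have hW : IsAffineOpen W := hV.basicOpen c.g
  let A := Γ(X₁, c.U)
  let T := Γ(X₂, W)
  letI : Algebra A T := (f.appLE c.U W c.le).hom.toAlgebra
  let ρ := (X₂.presheaf.map (homOfLE hWV).op).hom
  letI : Algebra Γ(X₂, V) T := ρ.toAlgebra
  haveI : IsLocalization.Away c.g T := hV.isLocalization_basicOpen c.g
  let a : Ideal A := i₁.ker.ideal ⟨c.U, c.hU⟩
  let J : Ideal T := i₂.ker.ideal ⟨W, hW⟩
  let IV : Ideal Γ(X₂, V) := i₂.ker.ideal ⟨V, hV⟩
  have hJmap : J = IV.map ρ := (i₂.ker.map_ideal_basicOpen ⟨V, hV⟩ c.g).symm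
  letI : Algebra (A ⧸ a) (T ⧸ J) :=
    (Ideal.quotientMap J (f.appLE c.U W c.le).hom (le_comap_ker i₁ i₂ f g hsq c.hU hW c.le)).toAlgebra
  haveI : IsScalarTower A (A ⧸ a) (T ⧸ J) := .of_algebraMap_eq fun x => rfl
  haveI : Algebra.IsStandardSmoothOfRelativeDimension n A T :=
    (RingHom.isStandardSmoothOfRelativeDimension_algebraMap n).1 c.std
  haveI : Algebra.IsStandardSmooth A T := Algebra.IsStandardSmoothOfRelativeDimension.isStandardSmooth n
  have hS : RingHom.Locally (RingHom.IsStandardSmoothOfRelativeDimension e) (algebraMap (A ⧸ a) (T ⧸ J)) :=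
    quotientMap_prop i₁ i₂ f g hsq c.hU hW c.le (P := RingHom.Locally (RingHom.IsStandardSmoothOfRelativeDimension e))
      (RingHom.locally_respectsIso (RingHom.isStandardSmoothOfRelativeDimension_respectsIso))
      (HasRingHomProperty.appLE (P := @SmoothOfRelativeDimension e) g inferInstance
        ⟨i₁ ⁻¹ᵁ c.U, c.hU.preimage i₁⟩ ⟨i₂ ⁻¹ᵁ W, hW.preimage i₂⟩ _)
  have hSsm : (algebraMap (A ⧸ a) (T ⧸ J)).Smooth := by
    haveI : Smooth g := SmoothOfRelativeDimension.smooth e g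
    exact quotientMap_prop i₁ i₂ f g hsq c.hU hW c.le (P := RingHom.Smooth) RingHom.Smooth.respectsIso
      (HasRingHomProperty.appLE (P := @Smooth) g inferInstance
        ⟨i₁ ⁻¹ᵁ c.U, c.hU.preimage i₁⟩ ⟨i₂ ⁻¹ᵁ W, hW.preimage i₂⟩ _)
  haveI : Algebra.Smooth (A ⧸ a) (T ⧸ J) := RingHom.smooth_algebraMap.1 hSsm
  let q : Ideal T := ptIdeal X₂ W t c.mem
  let K := q.ResidueField
  have hJq : J ≤ q := fun x hx => by
    obtain ⟨z, rfl⟩ := htZ
    refine mem_ptIdeal.2 fun hz => ?_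
    have hx0 : i₂.app W x = 0 := by
      rwa [show J = i₂.ker.ideal ⟨W, hW⟩ from rfl, Scheme.Hom.ker_apply, RingHom.mem_ker] at hx
    have h1 : z ∈ i₂ ⁻¹ᵁ X₂.basicOpen x := hz
    rw [Scheme.preimage_basicOpen, hx0, Scheme.basicOpen_zero] at h1
    exact h1
  have hspanI : Submodule.span K (dAt A K '' (J : Set T)) = Submodule.span K (dPt c '' (IV : Set Γ(X₂, V))) := by
    refine le_antisymm (Submodule.span_le.2 ?_) (Submodule.span_mono ?_)
    · rintro _ ⟨x, hx, rfl⟩
      have hx' : x ∈ Submodule.span T (ρ '' (IV : Set Γ(X₂, V))) := by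
        rw [hJmap] at hx
        exact hx
      clear hx
      induction hx' using Submodule.span_induction with
      | mem x hx =>
        obtain ⟨b, hb, rfl⟩ := hx
        exact Submodule.subset_span ⟨b, hb, rfl⟩
      | zero => rw [dAt_zero]; exact zero_mem _
      | add x y hx hy hx' hy' =>
        rw [SetLike.mem_coe, dAt_add]
        exact add_mem hx' hy'
      | smul d x hx hx' =>
        rw [SetLike.mem_coe, smul_eq_mul, dAt_mul,
          show algebraMap T K x = 0 from Ideal.algebraMap_residueField_eq_zero.2 (hJq (hJmap.ge hx)), zero_smul, add_zero]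
        exact Submodule.smul_mem _ _ hx'
    · rintro _ ⟨b, hb, rfl⟩
      exact ⟨ρ b, hJmap.ge (Ideal.mem_map_of_mem ρ hb), rfl⟩
  let L := Submodule.span K (dAt A K '' (J : Set T))
  have hdim : Module.finrank K L + e = n :=
    finrank_span_dAt a J q hJq n e (RingHom.locally_of RingHom.isStandardSmoothOfRelativeDimension_respectsIso _ c.std) hS
  haveI : Module.Finite K L := inferInstance
  refine ⟨Module.finrank K L, hdim, ?_, fun h hhI hh => ?_⟩
  · obtain ⟨s, hsI, hsp, hli⟩ := exists_linearIndependent K (dPt c '' (IV : Set Γ(X₂, V)))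
    have hspL : Submodule.span K s = L := hsp.trans hspanI.symm
    have hfin : s.Finite := hli.setFinite
    haveI := hfin.fintype
    have hcard : Fintype.card s = Module.finrank K L := by
      rw [← hspL, finrank_span_set_eq_card hli, Set.toFinset_card]
    let σ : Fin (Module.finrank K L) ≃ s := (finCongr hcard.symm).trans (Fintype.equivFin s).symm
    choose b hb hb' using fun i => hsI (σ i).2
    refine ⟨b, hb, ?_⟩
    show LinearIndependent K fun i => dPt c (b i)
    simp only [hb']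
    exact hli.comp _ σ.injective
  · change LinearIndependent K fun i => dAt A K (ρ (h i)) at hh
    have hhJ : ∀ i, ρ (h i) ∈ J := fun i => hJmap.ge (Ideal.mem_map_of_mem ρ (hhI i))
    have hspan : Submodule.span K (Set.range fun i => dAt A K (ρ (h i))) = L := by
      refine Submodule.eq_of_le_of_finrank_le (Submodule.span_mono ?_) ?_
      · rintro _ ⟨i, rfl⟩
        exact ⟨_, hhJ i, rfl⟩
      · rw [finrank_span_eq_card hh, Fintype.card_fin]
    obtain ⟨D₁, hD₁, hsm⟩ := exists_smooth_slice (A := A) q (fun i => ρ (h i)) hh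
    obtain ⟨D₂, hD₂, hkill⟩ := exists_kill a J q hJq (fun i => ρ (h i)) hhJ
      (fun m hm => hspan.ge (Submodule.subset_span ⟨m, hm, rfl⟩))
    let D := X₂.basicOpen (D₁ * D₂)
    have hDW : D ≤ W := X₂.basicOpen_le _
    have hDV : D ≤ V := hDW.trans hWV
    have hDU : D ≤ f ⁻¹ᵁ c.U := hDW.trans c.le
    have htD : t ∈ D := mem_basicOpen_of_notMem (ht := c.mem) fun hm =>
      (Ideal.IsPrime.mem_or_mem inferInstance hm).elim hD₁ hD₂
    refine ⟨D, hW.basicOpen _, hDV, hDU, htD, ?_, ?_⟩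
    · let ρ' := (X₂.presheaf.map (homOfLE hDW).op).hom
      letI : Algebra T Γ(X₂, D) := ρ'.toAlgebra
      haveI : IsLocalization.Away (D₁ * D₂) Γ(X₂, D) := hW.isLocalization_basicOpen _
      letI : Algebra A Γ(X₂, D) := (f.appLE c.U D hDU).hom.toAlgebra
      haveI : IsScalarTower A T Γ(X₂, D) := .of_algebraMap_eq fun x => by
        show f.appLE c.U D hDU x = X₂.presheaf.map (homOfLE hDW).op (f.appLE c.U W c.le x)
        rw [← ConcreteCategory.comp_apply, Scheme.Hom.appLE_map]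
      have h1 := smooth_quot_loc (fun i => ρ (h i)) D₁ D₂ hsm Γ(X₂, D)
      have hres : (fun i => algebraMap T Γ(X₂, D) (ρ (h i))) = fun i => X₂.presheaf.map (homOfLE hDV).op (h i) := by
        funext i
        show X₂.presheaf.map (homOfLE hDW).op (X₂.presheaf.map (homOfLE hWV).op (h i)) = _
        rw [← ConcreteCategory.comp_apply, ← X₂.presheaf.map_comp]
        rfl
      rw [hres] at h1
      exact RingHom.smooth_algebraMap.2 h1
    · let ρ' := (X₂.presheaf.map (homOfLE hDW).op).hom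
      have hD : i₂.ker.ideal ⟨D, hW.basicOpen _⟩ = J.map ρ' := (i₂.ker.map_ideal_basicOpen ⟨W, hW⟩ _).symm
      rw [hD, Ideal.map_le_iff_le_comap]
      intro x hx
      rw [Ideal.mem_comap]
      have hu : IsUnit (ρ' D₂) := by
        have h := RingedSpace.isUnit_res_basicOpen X₂.toRingedSpace (D₁ * D₂)
        have h' : IsUnit (ρ' (D₁ * D₂)) := h
        rw [map_mul] at h'
        exact isUnit_of_mul_isUnit_right h'
      refine (Ideal.unit_mul_mem_iff_mem _ hu).1 ?_
      rw [← map_mul]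
      have h1 := Ideal.mem_map_of_mem ρ' (hkill x hx)
      rw [Ideal.map_sup, Ideal.map_span, Ideal.map_map, ← Set.range_comp] at h1
      have e1 : (ρ' ∘ fun i => ρ (h i)) = fun i => X₂.presheaf.map (homOfLE hDV).op (h i) := by
        funext i
        show X₂.presheaf.map (homOfLE hDW).op (X₂.presheaf.map (homOfLE hWV).op (h i)) = _
        rw [← ConcreteCategory.comp_apply, ← X₂.presheaf.map_comp]
        rfl
      have e2 : ρ'.comp (algebraMap A T) = (f.appLE c.U D hDU).hom := by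
        refine RingHom.ext fun x => ?_
        show X₂.presheaf.map (homOfLE hDW).op (f.appLE c.U W c.le x) = _
        rw [← ConcreteCategory.comp_apply, Scheme.Hom.appLE_map]
      rwa [e1, e2] at h1

end Square

end Groth.Agent.SmSliceSubLib
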